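import Cfsg.Agent.Lib.Helper15.Ree4.Checks

/-!
# Root elements of `F₄` as elements of `GL`, and lifting of the kernel checks (S1112)
-/

set_option autoImplicit false

namespace Cfsg.Agent.Helper15.Ree4

open Cfsg.Lie Cfsg.Agent.Helper18

variable {K : Type*} [Field K]

theorem x_add' (r : ℕ) (s s' : K) :
    chevF4.x K r s * chevF4.x K r s' = chevF4.x K r (s + s') := by
  by_cases hr : r < 48
  · exact x_add_of_check chevF4 r (addF4_0' r (Nat.zero_le _) hr) s s'
  · have hr' : ¬ r < chevF4.nroots := hr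
    simp only [ChevalleyDatum.x, dif_neg hr', mul_one]

/-- the root element `x_r(s)` in `GL` -/
noncomputable def xg (r : ℕ) (s : K) : GL chevF4.Idx K :=
  ⟨chevF4.x K r s, chevF4.x K r (-s), by rw [x_add', add_neg_cancel, x_zero],
    by rw [x_add', neg_add_cancel, x_zero]⟩

@[simp] theorem xg_val (r : ℕ) (s : K) :
    ((xg r s : GL chevF4.Idx K) : Matrix chevF4.Idx chevF4.Idx K) = chevF4.x K r s := rfl

theorem xg_add (r : ℕ) (s s' : K) : xg r s * xg r s' = xg r (s + s') :=
  Units.ext (by simp only [Units.val_mul, xg_val, x_add'])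

theorem xg_zero (r : ℕ) : xg r (0 : K) = 1 := Units.ext (by simp only [xg_val, x_zero, Units.val_one])

theorem xg_inv (r : ℕ) (s : K) : (xg r s)⁻¹ = xg r (-s) := by
  rw [inv_eq_iff_mul_eq_one, xg_add, add_neg_cancel, xg_zero]

/-- the element of `GL` of a word -/
noncomputable def wordG (w : List (ℕ × K)) : GL chevF4.Idx K := (w.map fun p => xg p.1 p.2).prod

theorem wordG_nil : wordG ([] : List (ℕ × K)) = 1 := rfl

theorem wordG_cons (p : ℕ × K) (w : List (ℕ × K)) : wordG (p :: w) = xg p.1 p.2 * wordG w := by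
  simp [wordG]

theorem wordG_append (u v : List (ℕ × K)) : wordG (u ++ v) = wordG u * wordG v := by
  simp [wordG]

theorem wordG_val (w : List (ℕ × K)) :
    ((wordG w : GL chevF4.Idx K) : Matrix chevF4.Idx chevF4.Idx K) = chevF4.wordMat K w := by
  induction w with
  | nil => simp [wordG, ChevalleyDatum.wordMat]
  | cons p w ih =>
    rw [wordG_cons, Units.val_mul, ih, xg_val]
    simp [ChevalleyDatum.wordMat]

theorem wordG_eq_of_check (a b : Kˣ) (w1 w2 : List (ℕ × LP))
    (h : wordEqCheck chevF4 w1 w2 = true) :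
    wordG (evalWord a b w1) = wordG (evalWord a b w2) :=
  Units.ext (by rw [wordG_val, wordG_val]; exact wordMat_eq_of_check chevF4 a b w1 w2 h)

theorem evalWord_append (a b : Kˣ) (u v : List (ℕ × LP)) :
    evalWord a b (u ++ v) = evalWord a b u ++ evalWord a b v := by
  simp [evalWord]

/-! ### The torus elements `h_{p₁}(p)`, `h_{p₄}(q)` -/

/-- `h_{p₁}(p)` -/
noncomputable def H33 (p : Kˣ) : GL chevF4.Idx K :=
  wordG [(33, (p : K)), (14, -((p⁻¹ : Kˣ) : K)), (33, (p : K)), (33, -1), (14, 1), (33, -1)]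

/-- `h_{p₄}(q)` -/
noncomputable def H24 (q : Kˣ) : GL chevF4.Idx K :=
  wordG [(24, (q : K)), (23, -((q⁻¹ : Kˣ) : K)), (24, (q : K)), (24, -1), (23, 1), (24, -1)]

theorem eval_hWa33 (a b : Kˣ) : wordG (evalWord a b (hWa 33 14)) = H33 a := by
  unfold H33
  congr 1
  simp [evalWord, hWa, LP.eval, LP.evalMono]

theorem eval_hWa24 (a b : Kˣ) : wordG (evalWord a b (hWa 24 23)) = H24 a := by
  unfold H24
  congr 1
  simp [evalWord, hWa, LP.eval, LP.evalMono]

theorem eval_hWb24 (a b : Kˣ) : wordG (evalWord a b (hWb 24 23)) = H24 b := by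
  unfold H24
  congr 1
  simp [evalWord, hWb, LP.eval, LP.evalMono]

/-- generic conjugation by `h_{p₁}(p)` -/
theorem h33_conj (p : Kˣ) (r : ℕ × ℤ × ℤ) (hr : r ∈ rts) (s : K) :
    H33 p * xg r.1 s = xg r.1 (((p ^ r.2.1 : Kˣ) : K) * s) * H33 p := by
  by_cases hs : s = 0
  · subst hs; simp [xg_zero]
  have hc := (List.all_eq_true.mp chk_h33) r hr
  have h := wordG_eq_of_check p (Units.mk0 s hs) _ _ hc
  rw [evalWord_append, evalWord_append, wordG_append, wordG_append, eval_hWa33] at h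
  have e1 : wordG (evalWord p (Units.mk0 s hs) [(r.1, vb)]) = xg r.1 s := by
    simp [evalWord, vb, LP.eval, LP.evalMono, wordG]
  have e2 : wordG (evalWord p (Units.mk0 s hs) [(r.1, [(1, r.2.1, 1)])]) =
      xg r.1 (((p ^ r.2.1 : Kˣ) : K) * s) := by
    simp [evalWord, LP.eval, LP.evalMono, wordG]
  rw [e1, e2] at h
  exact h

/-- generic conjugation by `h_{p₄}(q)` -/
theorem h24_conj (q : Kˣ) (r : ℕ × ℤ × ℤ) (hr : r ∈ rts) (s : K) :
    H24 q * xg r.1 s = xg r.1 (((q ^ r.2.2 : Kˣ) : K) * s) * H24 q := by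
  by_cases hs : s = 0
  · subst hs; simp [xg_zero]
  have hc := (List.all_eq_true.mp chk_h24) r hr
  have h := wordG_eq_of_check q (Units.mk0 s hs) _ _ hc
  rw [evalWord_append, evalWord_append, wordG_append, wordG_append, eval_hWa24] at h
  have e1 : wordG (evalWord q (Units.mk0 s hs) [(r.1, vb)]) = xg r.1 s := by
    simp [evalWord, vb, LP.eval, LP.evalMono, wordG]
  have e2 : wordG (evalWord q (Units.mk0 s hs) [(r.1, [(1, r.2.2, 1)])]) =
      xg r.1 (((q ^ r.2.2 : Kˣ) : K) * s) := by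
    simp [evalWord, LP.eval, LP.evalMono, wordG]
  rw [e1, e2] at h
  exact h

/-- `h_{p₁}(p) h_{p₄}(q)` -/
noncomputable def Hh (p q : Kˣ) : GL chevF4.Idx K := H33 p * H24 q

theorem Hh_conj_xg (p q : Kˣ) (r : ℕ × ℤ × ℤ) (hr : r ∈ rts) (s : K) :
    MulAut.conj (Hh p q) (xg r.1 s) = xg r.1 (((p ^ r.2.1 * q ^ r.2.2 : Kˣ) : K) * s) := by
  have h : Hh p q * xg r.1 s = xg r.1 (((p ^ r.2.1 * q ^ r.2.2 : Kˣ) : K) * s) * Hh p q := by
    unfold Hh
    rw [mul_assoc, h24_conj q r hr, ← mul_assoc, h33_conj p r hr, mul_assoc]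
    congr 2
    rw [Units.val_mul]; ring
  rw [MulAut.conj_apply, h, mul_assoc, mul_inv_cancel, mul_one]

/-! ### Commutation -/

theorem comm_pair (r s : ℕ) (hp : (r, s) ∈ [(28, 30), (19, 17), (33, 24), (14, 23)])
    (x y : K) : xg r x * xg s y = xg s y * xg r x := by
  by_cases hx : x = 0
  · subst hx; simp [xg_zero]
  by_cases hy : y = 0
  · subst hy; simp [xg_zero]
  have hc := (List.all_eq_true.mp chk_comm) (r, s) hp
  have h := wordG_eq_of_check (Units.mk0 x hx) (Units.mk0 y hy) _ _ hc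
  simpa [evalWord, va, vb, LP.eval, LP.evalMono, wordG] using h

/-! ### The rearrangement of `Hh p q` -/

theorem Hh_eq (p q : Kˣ) : Hh p q =
    xg 33 (p : K) * xg 24 (q : K) * (xg 14 (-((p⁻¹ : Kˣ) : K)) * xg 23 (-((q⁻¹ : Kˣ) : K))) *
      (xg 33 (p : K) * xg 24 (q : K)) *
      (xg 33 (-1) * xg 24 (-1)) * (xg 14 1 * xg 23 1) * (xg 33 (-1) * xg 24 (-1)) := by
  have h := wordG_eq_of_check p q _ _ chk_L1
  rw [evalWord_append, wordG_append, eval_hWa33, eval_hWb24] at h
  unfold Hh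
  rw [h]
  simp [evalWord, va, vb, kc, LP.eval, LP.evalMono, wordG, mul_assoc]

/-! ### The collection identities (in characteristic 2) -/

theorem coll_pos (h2 : (2 : K) = 0) (c C : Kˣ) :
    xg 28 (1 : K) * xg 25 1 * xg 27 1 * (xg 27 (C : K) * xg 25 (c : K) * xg 28 ((c : K) * C)) =
    xg 27 ((C : K) + 1) * xg 25 ((c : K) + 1) * xg 28 ((c : K) * C + C) *
      xg 30 ((C : K) ^ 2 + 1) := by
  have h := wordG_eq_of_check c C _ _ chk_coll_pos
  simp only [evalWord, List.map_cons, List.map_nil, wordG_cons, wordG_nil, mul_one] at h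
  simp only [LP.eval, LP.evalMono, kc, va, vb, List.map_cons, List.map_nil, List.sum_cons,
    List.sum_nil] at h
  simp only [zpow_zero, zpow_one, mul_one, one_mul, Units.val_one, Units.val_mul, add_zero,
    Int.cast_neg, Int.cast_one, Int.cast_ofNat, zpow_ofNat, neg_mul, pow_zero, pow_one,
    Units.val_pow_eq_pow_val] at h
  have hm : (-1 : K) = 1 := by linear_combination (-1 : K) * h2
  have hn : ∀ x : K, -x = x := fun x => by linear_combination (-x) * h2
  simp only [hn, hm] at h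
  simp only [mul_assoc]
  exact h

theorem coll_neg (h2 : (2 : K) = 0) (c C : Kˣ) :
    xg 19 (1 : K) * xg 22 1 * xg 20 1 * (xg 20 (C : K) * xg 22 (c : K) * xg 19 ((c : K) * C)) =
    xg 20 ((C : K) + 1) * xg 22 ((c : K) + 1) * xg 19 ((c : K) * C + C) *
      xg 17 ((C : K) ^ 2 + 1) := by
  have h := wordG_eq_of_check c C _ _ chk_coll_neg
  simp only [evalWord, List.map_cons, List.map_nil, wordG_cons, wordG_nil, mul_one] at h
  simp only [LP.eval, LP.evalMono, kc, va, vb, List.map_cons, List.map_nil, List.sum_cons,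
    List.sum_nil] at h
  simp only [zpow_zero, zpow_one, mul_one, one_mul, Units.val_one, Units.val_mul, add_zero,
    Int.cast_neg, Int.cast_one, Int.cast_ofNat, zpow_ofNat, neg_mul, pow_zero, pow_one,
    Units.val_pow_eq_pow_val] at h
  have hm : (-1 : K) = 1 := by linear_combination (-1 : K) * h2
  have hn : ∀ x : K, -x = x := fun x => by linear_combination (-x) * h2
  have e1 : (c : K) * C + (C + 2) = c * C + C := by linear_combination h2
  have e2 : (C : K) ^ 2 + (4 * C + 3) = (C : K) ^ 2 + 1 := by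
    linear_combination (2 * (C : K) + 1) * h2
  simp only [hn, hm, e1, e2] at h
  simp only [mul_assoc]
  exact h

end Cfsg.Agent.Helper15.Ree4
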