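import Cfsg.Agent.Lib.Helper18.AddSmall
import Cfsg.Prelude.Def_LieTwisted

/-!
# Kernel-checked word identities in the Chevalley group of type `F₄` (for `²F₄` perfectness, S1112)
-/

set_option autoImplicit false
set_option maxRecDepth 100000

namespace Cfsg.Agent.Helper15.Ree4

open Cfsg.Lie Cfsg.Agent.Helper18

/-- the variable `a` -/
def va : LP := [(1, 1, 0)]
/-- the variable `b` -/
def vb : LP := [(1, 0, 1)]
/-- an integer constant -/
def kc (n : ℤ) : LP := [(n, 0, 0)]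

/-- the word `h_r(a)` (with `nr = -r`) -/
def hWa (r nr : ℕ) : List (ℕ × LP) :=
  [(r, [(1, 1, 0)]), (nr, [(-1, -1, 0)]), (r, [(1, 1, 0)]),
    (r, [(-1, 0, 0)]), (nr, [(1, 0, 0)]), (r, [(-1, 0, 0)])]

/-- the word `h_r(b)` (with `nr = -r`) -/
def hWb (r nr : ℕ) : List (ℕ × LP) :=
  [(r, [(1, 0, 1)]), (nr, [(-1, 0, -1)]), (r, [(1, 0, 1)]),
    (r, [(-1, 0, 0)]), (nr, [(1, 0, 0)]), (r, [(-1, 0, 0)])]

/-- the relevant roots with the exponents of `h_{p₁}` and `h_{p₄}` -/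
def rts : List (ℕ × ℤ × ℤ) :=
  [(33, 2, 0), (24, 0, 2), (27, -1, 0), (25, 0, -1), (28, -1, -1), (30, -2, -1),
    (14, -2, 0), (23, 0, -2), (20, 1, 0), (22, 0, 1), (19, 1, 1), (17, 2, 1)]

theorem chk_h33 : (rts.all fun r =>
    wordEqCheck chevF4 (hWa 33 14 ++ [(r.1, vb)]) ([(r.1, [(1, r.2.1, 1)])] ++ hWa 33 14)) = true := by
  decide +kernel

theorem chk_h24 : (rts.all fun r =>
    wordEqCheck chevF4 (hWa 24 23 ++ [(r.1, vb)]) ([(r.1, [(1, r.2.2, 1)])] ++ hWa 24 23)) = true := by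
  decide +kernel

theorem chk_L1 : wordEqCheck chevF4 (hWa 33 14 ++ hWb 24 23)
    [(33, va), (24, vb), (14, [(-1, -1, 0)]), (23, [(-1, 0, -1)]), (33, va), (24, vb),
      (33, kc (-1)), (24, kc (-1)), (14, kc 1), (23, kc 1), (33, kc (-1)), (24, kc (-1))] = true := by
  decide +kernel

theorem chk_comm : ([(28, 30), (19, 17), (33, 24), (14, 23)].all fun p : ℕ × ℕ =>
    wordEqCheck chevF4 [(p.1, va), (p.2, vb)] [(p.2, vb), (p.1, va)]) = true := by
  decide +kernel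

/-- the collection identity on the positive side (`a = c`, `b = C`) -/
theorem chk_coll_pos : wordEqCheck chevF4
    [(28, kc (-1)), (25, kc (-1)), (27, kc (-1)), (27, vb), (25, va), (28, [(1, 1, 1)])]
    [(27, [(1, 0, 1), (-1, 0, 0)]), (25, [(1, 1, 0), (-1, 0, 0)]), (28, [(1, 1, 1), (-1, 0, 1)]),
      (30, [(1, 0, 2), (-1, 0, 0)])] = true := by
  decide +kernel

/-- the collection identity on the negative side -/
theorem chk_coll_neg : wordEqCheck chevF4
    [(19, kc (-1)), (22, kc (-1)), (20, kc (-1)), (20, vb), (22, va), (19, [(1, 1, 1)])]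
    [(20, [(1, 0, 1), (-1, 0, 0)]), (22, [(1, 1, 0), (-1, 0, 0)]),
      (19, [(1, 1, 1), (1, 0, 1), (-2, 0, 0)]),
      (17, [(1, 0, 2), (-4, 0, 1), (3, 0, 0)])] = true := by
  decide +kernel

end Cfsg.Agent.Helper15.Ree4
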