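import Cfsg.Agent.Lib.Helper15.Ree4.Basic

/-!
# `²F₄(2^(2m+1))` is perfect for `m ≥ 1` (S1112): the main argument
-/

set_option autoImplicit false

namespace Cfsg.Agent.Helper15.Ree4

open Cfsg.Lie Cfsg.Agent.Helper18

variable {K : Type*} [Field K]

/-- what is needed of the field `K` (characteristic 2) and of `θ = (·)^e` -/
structure FieldData (K : Type*) [Field K] (e : ℕ) : Prop where
  h2 : (2 : K) = 0
  add : ∀ x y : K, (x + y) ^ e = x ^ e + y ^ e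
  sq : ∀ x : K, ((x ^ e) ^ e) ^ 2 = x
  epos : e ≠ 0

/-- one of the two sides of type `B₂` -/
structure Side (K : Type*) [Field K] (e : ℕ) where
  ra : ℕ
  rb : ℕ
  rab : ℕ
  raab : ℕ
  tor : Kˣ → GL chevF4.Idx K
  comm : ∀ x y : K, xg rab x * xg raab y = xg raab y * xg rab x
  tor_mem : ∀ ν, tor ν ∈ twistedF4 K e
  tor_a : ∀ (ν : Kˣ) (x : K), MulAut.conj (tor ν) (xg ra x) = xg ra ((ν : K) ^ e * x)
  tor_b : ∀ (ν : Kˣ) (x : K), MulAut.conj (tor ν) (xg rb x) = xg rb ((ν : K) * x)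
  tor_ab : ∀ (ν : Kˣ) (x : K), MulAut.conj (tor ν) (xg rab x) = xg rab ((ν : K) ^ e * ν * x)
  tor_aab : ∀ (ν : Kˣ) (x : K),
    MulAut.conj (tor ν) (xg raab x) = xg raab (((ν : K) ^ e) ^ 2 * ν * x)
  coll : ∀ c C : Kˣ,
    xg rab (1 : K) * xg rb 1 * xg ra 1 * (xg ra (C : K) * xg rb (c : K) * xg rab ((c : K) * C)) =
      xg ra ((C : K) + 1) * xg rb ((c : K) + 1) * xg rab ((c : K) * C + C) *
        xg raab ((C : K) ^ 2 + 1)
  gen_mem : ∀ t u : K,
    xg ra (t ^ e) * xg rb t * xg rab (t ^ (e + 1) + u) * xg raab (u ^ (2 * e)) ∈ twistedF4 K e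

namespace FieldData

variable {e : ℕ} (FD : FieldData K e)
include FD

theorem neg_eq (x : K) : -x = x := by linear_combination (-x) * FD.h2
theorem add_self (x : K) : x + x = 0 := by linear_combination x * FD.h2
theorem sq_add (x y : K) : (x + y) ^ 2 = x ^ 2 + y ^ 2 := by linear_combination (x * y) * FD.h2

theorem comm_mem' {g h : GL chevF4.Idx K} (hg : g ∈ twistedF4 K e) (hh : h ∈ twistedF4 K e) :
    g * h * g⁻¹ * h⁻¹ ∈ ⁅twistedF4 K e, twistedF4 K e⁆ := by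
  have := Subgroup.commutator_mem_commutator hg hh
  rwa [commutatorElement_def] at this

variable (S : Side K e)

/-- the elements of the `B₂`-side -/
noncomputable def Q (_FD : FieldData K e) (S : Side K e) (t u : K) : GL chevF4.Idx K :=
  xg S.ra (t ^ e) * xg S.rb t * xg S.rab (t * t ^ e + u) * xg S.raab ((u ^ e) ^ 2)

/-- the central elements of the `B₂`-side -/
noncomputable def Z (_FD : FieldData K e) (S : Side K e) (u : K) : GL chevF4.Idx K :=
  xg S.rab u * xg S.raab ((u ^ e) ^ 2)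

theorem Q_mem (t u : K) : FD.Q S t u ∈ twistedF4 K e := by
  have := S.gen_mem t u
  rw [show t ^ (e + 1) = t * t ^ e by ring, show u ^ (2 * e) = (u ^ e) ^ 2 by ring] at this
  exact this

theorem Q_zero (u : K) : FD.Q S 0 u = FD.Z S u := by
  unfold Q Z
  rw [zero_pow FD.epos, xg_zero, xg_zero]
  simp

theorem Z_add (u u' : K) : FD.Z S u * FD.Z S u' = FD.Z S (u + u') := by
  unfold Z
  rw [mul_assoc, ← mul_assoc (xg S.raab _), ← S.comm, mul_assoc, ← mul_assoc, xg_add, xg_add,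
    FD.add, FD.sq_add]

theorem Z_zero : FD.Z S 0 = 1 := by
  unfold Z
  rw [zero_pow FD.epos, xg_zero]
  simp [xg_zero]

theorem Z_inv (u : K) : (FD.Z S u)⁻¹ = FD.Z S u := by
  rw [inv_eq_iff_mul_eq_one, FD.Z_add, FD.add_self, FD.Z_zero]

theorem Q_decomp (t u u₁ : K) : FD.Q S t u = FD.Q S t u₁ * FD.Z S (u + u₁) := by
  unfold Q Z
  rw [mul_assoc _ (xg S.raab _), ← mul_assoc (xg S.raab _), ← S.comm, mul_assoc (xg S.rab (u + u₁)),
    xg_add, ← mul_assoc, mul_assoc _ (xg S.rab _) (xg S.rab _), xg_add, FD.add, FD.sq_add]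
  have e1 : t * t ^ e + u₁ + (u + u₁) = t * t ^ e + u := by linear_combination u₁ * FD.h2
  have e2 : (u₁ ^ e) ^ 2 + ((u ^ e) ^ 2 + (u₁ ^ e) ^ 2) = (u ^ e) ^ 2 := by
    linear_combination (u₁ ^ e) ^ 2 * FD.h2
  rw [e1, e2]

theorem conj_Q (ν : Kˣ) (t u : K) :
    MulAut.conj (S.tor ν) (FD.Q S t u) = FD.Q S ((ν : K) * t) ((ν : K) ^ e * ν * u) := by
  unfold Q
  simp only [map_mul]
  rw [S.tor_a, S.tor_b, S.tor_ab, S.tor_aab]
  have h := FD.sq (ν : K)
  have e1 : (ν : K) ^ e * t ^ e = ((ν : K) * t) ^ e := by rw [mul_pow]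
  have e2 : (ν : K) ^ e * ν * (t * t ^ e + u) = (ν : K) * t * ((ν : K) * t) ^ e + (ν : K) ^ e * ν * u := by
    rw [mul_pow]; ring
  have e3 : ((ν : K) ^ e) ^ 2 * ν * (u ^ e) ^ 2 = ((((ν : K) ^ e) * ν * u) ^ e) ^ 2 := by
    rw [mul_pow, mul_pow, mul_pow, mul_pow, h]; ring
  rw [e1, e2, e3]

theorem conj_Z (ν : Kˣ) (u : K) :
    MulAut.conj (S.tor ν) (FD.Z S u) = FD.Z S ((ν : K) ^ e * ν * u) := by
  rw [← FD.Q_zero, FD.conj_Q, mul_zero, FD.Q_zero]

/-- the central elements lie in the commutator subgroup -/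
theorem Z_mem_comm (ν : Kˣ) (hν : (ν : K) ^ e * ν ≠ 1) (u : K) :
    FD.Z S u ∈ ⁅twistedF4 K e, twistedF4 K e⁆ := by
  set k : K := (ν : K) ^ e * ν with hk
  have hk1 : k + 1 ≠ 0 := by
    intro h
    apply hν
    have : k = -1 := by linear_combination h
    rw [this, FD.neg_eq]
  have hZm : FD.Z S (u / (k + 1)) ∈ twistedF4 K e := by
    rw [← FD.Q_zero]; exact FD.Q_mem S _ _
  have key := FD.comm_mem' (S.tor_mem ν) hZm
  have hc : S.tor ν * FD.Z S (u / (k + 1)) * (S.tor ν)⁻¹ = FD.Z S (k * (u / (k + 1))) := by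
    have := FD.conj_Z S ν (u / (k + 1))
    rwa [MulAut.conj_apply] at this
  rw [hc, FD.Z_inv, FD.Z_add] at key
  have e1 : k * (u / (k + 1)) + u / (k + 1) = u := by field_simp
  rwa [e1] at key

/-- the collection step -/
theorem key_step (ν τ : Kˣ) :
    (FD.Q S (τ : K) 0)⁻¹ * FD.Q S ((ν : K) * τ) 0 =
      FD.Q S ((τ : K) * ((ν : K) + 1)) ((τ : K) ^ e * τ * ((ν : K) + 1)) := by
  have s1 : MulAut.conj (S.tor τ) (FD.Q S 1 0) = FD.Q S (τ : K) 0 := by
    rw [FD.conj_Q, mul_one, mul_zero]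
  have s2 : MulAut.conj (S.tor τ) (FD.Q S (ν : K) 0) = FD.Q S ((ν : K) * τ) 0 := by
    rw [FD.conj_Q, mul_zero, mul_comm]
  have s3 : (FD.Q S (1 : K) 0)⁻¹ * FD.Q S (ν : K) 0 = FD.Q S ((ν : K) + 1) ((ν : K) + 1) := by
    have hc := S.coll ν (ν ^ e)
    rw [Units.val_pow_eq_pow_val] at hc
    have hQ1 : FD.Q S (1 : K) 0 = xg S.ra 1 * xg S.rb 1 * xg S.rab 1 := by
      unfold Q
      rw [zero_pow FD.epos, zero_pow two_ne_zero, xg_zero, one_pow, mul_one, add_zero, mul_one]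
    have hQν : FD.Q S (ν : K) 0 =
        xg S.ra ((ν : K) ^ e) * xg S.rb (ν : K) * xg S.rab ((ν : K) * (ν : K) ^ e) := by
      unfold Q
      rw [zero_pow FD.epos, zero_pow two_ne_zero, xg_zero, add_zero, mul_one]
    rw [hQ1, hQν, mul_inv_rev, mul_inv_rev, xg_inv, xg_inv, xg_inv, FD.neg_eq,
      ← mul_assoc (xg S.rab 1), hc]
    unfold Q
    rw [FD.add, one_pow, FD.sq_add, one_pow]
    have e1 : ((ν : K) + 1) * ((ν : K) ^ e + 1) + ((ν : K) + 1) =
        (ν : K) * (ν : K) ^ e + (ν : K) ^ e := by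
      linear_combination ((ν : K) + 1) * FD.h2
    rw [e1]
  rw [← s1, ← s2, ← map_inv, ← map_mul, s3, FD.conj_Q]

/-- all elements of the `B₂`-side lie in the commutator subgroup -/
theorem Q_mem_comm (ν : Kˣ) (hν1 : (ν : K) ≠ 1) (hν : (ν : K) ^ e * ν ≠ 1) (t u : K) :
    FD.Q S t u ∈ ⁅twistedF4 K e, twistedF4 K e⁆ := by
  by_cases ht : t = 0
  · subst ht
    rw [FD.Q_zero]
    exact FD.Z_mem_comm S ν hν u
  have hν1' : (ν : K) + 1 ≠ 0 := by
    intro h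
    apply hν1
    have : (ν : K) = -1 := by linear_combination h
    rw [this, FD.neg_eq]
  have hτ0 : t / ((ν : K) + 1) ≠ 0 := div_ne_zero ht hν1'
  set τ : Kˣ := Units.mk0 _ hτ0 with hτ
  have hτv : (τ : K) = t / ((ν : K) + 1) := rfl
  have hkey := FD.key_step S ν τ
  have ht' : (τ : K) * ((ν : K) + 1) = t := by rw [hτv]; field_simp
  rw [ht'] at hkey
  have hconj : S.tor ν * FD.Q S (τ : K) 0 * (S.tor ν)⁻¹ = FD.Q S ((ν : K) * τ) 0 := by
    have := FD.conj_Q S ν (τ : K) 0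
    rwa [MulAut.conj_apply, mul_zero] at this
  have hmem : (FD.Q S (τ : K) 0)⁻¹ * FD.Q S ((ν : K) * τ) 0 ∈
      ⁅twistedF4 K e, twistedF4 K e⁆ := by
    have := FD.comm_mem' (inv_mem (FD.Q_mem S (τ : K) 0)) (S.tor_mem ν)
    rw [inv_inv] at this
    rw [← hconj]
    have e1 : (FD.Q S (τ : K) 0)⁻¹ * (S.tor ν * FD.Q S (τ : K) 0 * (S.tor ν)⁻¹) =
        (FD.Q S (τ : K) 0)⁻¹ * S.tor ν * FD.Q S (τ : K) 0 * (S.tor ν)⁻¹ := by
      group
    rw [e1]
    exact this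
  rw [hkey] at hmem
  rw [FD.Q_decomp S t u ((τ : K) ^ e * τ * ((ν : K) + 1))]
  exact mul_mem hmem (FD.Z_mem_comm S ν hν _)

/-! ### The pairs -/

/-- the elements `x_r(t^θ) x_{r̄}(t)` lie in the commutator subgroup -/
theorem pair_mem_comm (r r' : ℕ) (hcomm : ∀ x y : K, xg r x * xg r' y = xg r' y * xg r x)
    (hmem : ∀ t : K, xg r (t ^ e) * xg r' t ∈ twistedF4 K e)
    (g : GL chevF4.Idx K) (hg : g ∈ twistedF4 K e) (k : K) (hk : k ≠ 1)
    (hr : ∀ x : K, MulAut.conj g (xg r x) = xg r (k ^ e * x))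
    (hr' : ∀ x : K, MulAut.conj g (xg r' x) = xg r' (k * x)) (t : K) :
    xg r (t ^ e) * xg r' t ∈ ⁅twistedF4 K e, twistedF4 K e⁆ := by
  have hk1 : k + 1 ≠ 0 := by
    intro h
    apply hk
    have : k = -1 := by linear_combination h
    rw [this, FD.neg_eq]
  have hadd : ∀ x y : K, xg r (x ^ e) * xg r' x * (xg r (y ^ e) * xg r' y) =
      xg r ((x + y) ^ e) * xg r' (x + y) := by
    intro x y
    rw [mul_assoc, ← mul_assoc (xg r' x), ← hcomm, mul_assoc, ← mul_assoc, xg_add, xg_add, FD.add]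
  have hinv : ∀ x : K, (xg r (x ^ e) * xg r' x)⁻¹ = xg r (x ^ e) * xg r' x := by
    intro x
    rw [inv_eq_iff_mul_eq_one, hadd, FD.add_self, zero_pow FD.epos, xg_zero, xg_zero, mul_one]
  have key := FD.comm_mem' hg (hmem (t / (k + 1)))
  have hc : g * (xg r ((t / (k + 1)) ^ e) * xg r' (t / (k + 1))) * g⁻¹ =
      xg r ((k * (t / (k + 1))) ^ e) * xg r' (k * (t / (k + 1))) := by
    have := map_mul (MulAut.conj g) (xg r ((t / (k + 1)) ^ e)) (xg r' (t / (k + 1)))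
    rw [hr, hr', MulAut.conj_apply, ← mul_pow] at this
    exact this
  rw [hc, hinv, hadd] at key
  have e1 : k * (t / (k + 1)) + t / (k + 1) = t := by field_simp
  rwa [e1] at key


/-! ### The torus `h(λ)` and the two sides -/

/-- the torus element `h(λ) = h_{p₁}(λ^θ) h_{p₄}(λ)` -/
noncomputable def hl (_FD : FieldData K e) (l : Kˣ) : GL chevF4.Idx K := Hh (l ^ e) l

theorem pairP_mem (t : K) : xg 33 (t ^ e) * xg 24 t ∈ twistedF4 K e := by
  refine Subgroup.subset_closure ⟨f4PairWord e f4p1 f4p4 t, Or.inl ⟨t, Or.inl rfl⟩, ?_⟩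
  rw [← wordG_val]
  simp [wordG, f4PairWord, f4p1, f4p4]

theorem pairN_mem (t : K) : xg 14 (t ^ e) * xg 23 t ∈ twistedF4 K e := by
  refine Subgroup.subset_closure ⟨f4PairWord e f4m1 f4m4 t, Or.inl ⟨t, Or.inr rfl⟩, ?_⟩
  rw [← wordG_val]
  simp [wordG, f4PairWord, f4m1, f4m4]

theorem hl_mem (l : Kˣ) : FD.hl l ∈ twistedF4 K e := by
  unfold hl
  rw [Hh_eq]
  have a1 : xg 33 (((l ^ e : Kˣ) : K)) * xg 24 (l : K) ∈ twistedF4 K e := by
    rw [Units.val_pow_eq_pow_val]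
    exact FD.pairP_mem _
  have a2 : xg 14 (-(((l ^ e : Kˣ)⁻¹ : Kˣ) : K)) * xg 23 (-((l⁻¹ : Kˣ) : K)) ∈ twistedF4 K e := by
    have := FD.pairN_mem ((l⁻¹ : Kˣ) : K)
    have e1 : (((l ^ e : Kˣ)⁻¹ : Kˣ) : K) = (((l⁻¹ : Kˣ) : K)) ^ e := by
      rw [← inv_pow, Units.val_pow_eq_pow_val]
    rw [FD.neg_eq, FD.neg_eq, e1]
    exact this
  have a3 : xg 33 (-1 : K) * xg 24 (-1 : K) ∈ twistedF4 K e := by
    have := FD.pairP_mem (1 : K)
    rw [one_pow] at this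
    rw [FD.neg_eq]
    exact this
  have a4 : xg 14 (1 : K) * xg 23 (1 : K) ∈ twistedF4 K e := by
    have := FD.pairN_mem (1 : K)
    rw [one_pow] at this
    exact this
  exact mul_mem (mul_mem (mul_mem (mul_mem (mul_mem a1 a2) a1) a3) a4) a3

omit FD in
theorem rts_mem : (33, (2 : ℤ), (0 : ℤ)) ∈ rts ∧ (24, (0 : ℤ), (2 : ℤ)) ∈ rts ∧
    (27, (-1 : ℤ), (0 : ℤ)) ∈ rts ∧ (25, (0 : ℤ), (-1 : ℤ)) ∈ rts ∧ (28, (-1 : ℤ), (-1 : ℤ)) ∈ rts ∧
    (30, (-2 : ℤ), (-1 : ℤ)) ∈ rts ∧ (14, (-2 : ℤ), (0 : ℤ)) ∈ rts ∧ (23, (0 : ℤ), (-2 : ℤ)) ∈ rts ∧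
    (20, (1 : ℤ), (0 : ℤ)) ∈ rts ∧ (22, (0 : ℤ), (1 : ℤ)) ∈ rts ∧ (19, (1 : ℤ), (1 : ℤ)) ∈ rts ∧
    (17, (2 : ℤ), (1 : ℤ)) ∈ rts := by
  simp [rts]

/-- conjugation by `h(λ)`, in terms of field elements -/
theorem hl_conj (l : Kˣ) (r : ℕ × ℤ × ℤ) (hr : r ∈ rts) (x : K) :
    MulAut.conj (FD.hl l) (xg r.1 x) = xg r.1 ((((l : K) ^ e) ^ r.2.1 * (l : K) ^ r.2.2) * x) := by
  unfold hl
  rw [Hh_conj_xg _ _ r hr]
  congr 2
  rw [Units.val_mul, Units.val_zpow_eq_zpow_val, Units.val_zpow_eq_zpow_val,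
    Units.val_pow_eq_pow_val]

/-- the positive side -/
noncomputable def sideP : Side K e where
  ra := 27
  rb := 25
  rab := 28
  raab := 30
  tor ν := FD.hl ν⁻¹
  comm := comm_pair 28 30 (by simp)
  tor_mem ν := FD.hl_mem ν⁻¹
  tor_a ν x := by
    rw [FD.hl_conj ν⁻¹ _ rts_mem.2.2.1]
    congr 1
    simp only [zpow_neg, zpow_one, zpow_zero, mul_one, Units.val_inv_eq_inv_val, inv_pow, inv_inv]
  tor_b ν x := by
    rw [FD.hl_conj ν⁻¹ _ rts_mem.2.2.2.1]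
    congr 1
    simp only [zpow_neg, zpow_one, zpow_zero, one_mul, Units.val_inv_eq_inv_val, inv_inv]
  tor_ab ν x := by
    rw [FD.hl_conj ν⁻¹ _ rts_mem.2.2.2.2.1]
    congr 1
    simp only [zpow_neg, zpow_one, Units.val_inv_eq_inv_val, inv_pow, inv_inv]
  tor_aab ν x := by
    rw [FD.hl_conj ν⁻¹ _ rts_mem.2.2.2.2.2.1]
    congr 1
    simp only [zpow_neg, zpow_one, Units.val_inv_eq_inv_val, inv_pow, inv_inv, zpow_ofNat, pow_one]
  coll := coll_pos FD.h2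
  gen_mem t u := by
    refine Subgroup.subset_closure
      ⟨b2ClassWord e f4a f4b f4ab f4aab t u, Or.inr ⟨t, u, Or.inl rfl⟩, ?_⟩
    rw [← wordG_val]
    simp [wordG, b2ClassWord, f4a, f4b, f4ab, f4aab, mul_assoc]

/-- the negative side -/
noncomputable def sideN : Side K e where
  ra := 20
  rb := 22
  rab := 19
  raab := 17
  tor ν := FD.hl ν
  comm := comm_pair 19 17 (by simp)
  tor_mem ν := FD.hl_mem ν
  tor_a ν x := by
    rw [FD.hl_conj ν _ rts_mem.2.2.2.2.2.2.2.2.1]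
    congr 1
    simp only [zpow_one, zpow_zero, mul_one]
  tor_b ν x := by
    rw [FD.hl_conj ν _ rts_mem.2.2.2.2.2.2.2.2.2.1]
    congr 1
    simp only [zpow_one, zpow_zero, one_mul]
  tor_ab ν x := by
    rw [FD.hl_conj ν _ rts_mem.2.2.2.2.2.2.2.2.2.2.1]
    congr 1
    simp only [zpow_one]
  tor_aab ν x := by
    rw [FD.hl_conj ν _ rts_mem.2.2.2.2.2.2.2.2.2.2.2]
    congr 1
    simp only [zpow_one, zpow_ofNat, pow_one]
  coll := coll_neg FD.h2
  gen_mem t u := by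
    refine Subgroup.subset_closure
      ⟨b2ClassWord e f4ma f4mb f4mab f4maab t u, Or.inr ⟨t, u, Or.inr rfl⟩, ?_⟩
    rw [← wordG_val]
    simp [wordG, b2ClassWord, f4ma, f4mb, f4mab, f4maab, mul_assoc]

/-- the abstract perfectness statement -/
theorem perfect (l : Kˣ) (h1 : (l : K) ≠ 1) (h2' : (l : K) ^ 2 ≠ 1) (h3 : (l : K) ^ e * l ≠ 1) :
    ⁅twistedF4 K e, twistedF4 K e⁆ = twistedF4 K e := by
  apply le_antisymm (Subgroup.commutator_le.mpr fun a ha b hb =>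
    mul_mem (mul_mem (mul_mem ha hb) (inv_mem ha)) (inv_mem hb))
  have hl0 : (l : K) ≠ 0 := l.ne_zero
  conv_lhs => unfold twistedF4 ChevalleyDatum.genSubgroup
  rw [Subgroup.closure_le]
  rintro g ⟨w, hw, hgw⟩
  have hg' : g = wordG w := Units.ext (by rw [hgw, wordG_val])
  rcases hw with ⟨t, rfl | rfl⟩ | ⟨t, u, rfl | rfl⟩
  · -- positive pair
    have := FD.pair_mem_comm 33 24 (comm_pair 33 24 (by simp)) FD.pairP_mem (FD.hl l) (FD.hl_mem l)
      ((l : K) ^ 2) h2'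
      (fun x => by
        rw [FD.hl_conj l _ rts_mem.1]; congr 1
        simp only [zpow_ofNat, zpow_zero, mul_one]; ring)
      (fun x => by
        rw [FD.hl_conj l _ rts_mem.2.1]; congr 1
        simp only [zpow_ofNat, zpow_zero, one_mul, pow_zero]) t
    rw [hg']
    simpa [wordG, f4PairWord, f4p1, f4p4] using this
  · -- negative pair
    have hk : ((l : K) ^ 2)⁻¹ ≠ 1 := by
      intro h; apply h2'; rw [← inv_inv ((l : K) ^ 2), h, inv_one]
    have := FD.pair_mem_comm 14 23 (comm_pair 14 23 (by simp)) FD.pairN_mem (FD.hl l) (FD.hl_mem l)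
      (((l : K) ^ 2)⁻¹) hk
      (fun x => by
        rw [FD.hl_conj l _ rts_mem.2.2.2.2.2.2.1]; congr 1
        simp only [zpow_neg, zpow_ofNat, zpow_zero, mul_one, inv_pow]; ring)
      (fun x => by
        rw [FD.hl_conj l _ rts_mem.2.2.2.2.2.2.2.1]; congr 1
        simp only [zpow_neg, zpow_ofNat, zpow_zero, one_mul, pow_zero]) t
    rw [hg']
    simpa [wordG, f4PairWord, f4m1, f4m4] using this
  · -- positive B₂ side
    have := FD.Q_mem_comm FD.sideP l h1 h3 t u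
    rw [hg']
    unfold Q at this
    simp only [sideP] at this
    rw [show t * t ^ e = t ^ (e + 1) by ring, show (u ^ e) ^ 2 = u ^ (2 * e) by ring] at this
    simpa [wordG, b2ClassWord, f4a, f4b, f4ab, f4aab, mul_assoc] using this
  · -- negative B₂ side
    have := FD.Q_mem_comm FD.sideN l h1 h3 t u
    rw [hg']
    unfold Q at this
    simp only [sideN] at this
    rw [show t * t ^ e = t ^ (e + 1) by ring, show (u ^ e) ^ 2 = u ^ (2 * e) by ring] at this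
    simpa [wordG, b2ClassWord, f4ma, f4mb, f4mab, f4maab, mul_assoc] using this

end FieldData

/-! ### The finite field -/

theorem fieldData_of_card [Fintype K] {m : ℕ} (hK : Fintype.card K = 2 ^ (2 * m + 1)) :
    FieldData K (2 ^ m) := by
  haveI : Fact (Nat.Prime 2) := ⟨by norm_num⟩
  haveI : CharP K 2 := charP_of_card_eq_prime_pow hK
  refine ⟨?_, ?_, ?_, ?_⟩
  · have := CharP.cast_eq_zero K 2
    exact_mod_cast this
  · intro x y
    exact add_pow_char_pow x y 2 m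
  · intro x
    rw [← pow_mul, ← pow_mul]
    have : 2 ^ m * (2 ^ m * 2) = Fintype.card K := by
      rw [hK]; ring
    rw [this, FiniteField.pow_card]
  · positivity

theorem exists_gen [Fintype K] {m : ℕ} (hK : Fintype.card K = 2 ^ (2 * m + 1)) (hm : 1 ≤ m) :
    ∃ l : Kˣ, (l : K) ≠ 1 ∧ (l : K) ^ 2 ≠ 1 ∧ (l : K) ^ 2 ^ m * l ≠ 1 := by
  classical
  obtain ⟨l, hl⟩ := IsCyclic.exists_generator (α := Kˣ)
  have hord : orderOf l = 2 ^ (2 * m + 1) - 1 := by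
    rw [orderOf_eq_card_of_forall_mem_zpowers hl, Nat.card_eq_fintype_card, Fintype.card_units, hK]
  set e := 2 ^ m with he
  have he2 : 2 ≤ e := by
    calc 2 = 2 ^ 1 := by norm_num
      _ ≤ 2 ^ m := Nat.pow_le_pow_right (by norm_num) hm
  have hq : 2 ^ (2 * m + 1) = 2 * e * e := by rw [he]; ring
  have h4 : 4 * e ≤ 2 * e * e := by nlinarith
  have hne : ∀ n : ℕ, n ≠ 0 → n + 2 ≤ 4 * e → l ^ n ≠ 1 := by
    intro n hn0 hn
    apply pow_ne_one_of_lt_orderOf hn0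
    rw [hord, hq]; omega
  refine ⟨l, ?_, ?_, ?_⟩
  · have h := hne 1 (by norm_num) (by omega)
    intro hc
    apply h
    apply Units.ext
    simpa using hc
  · have h := hne 2 (by norm_num) (by omega)
    intro hc
    apply h
    apply Units.ext
    simpa using hc
  · have h := hne (e + 1) (by omega) (by omega)
    intro hc
    apply h
    apply Units.ext
    rw [pow_succ]
    simpa using hc

/-- `²F₄(2^(2m+1))`, `m ≥ 1`, is perfect. -/
theorem twistedF4_perfect [Fintype K] {m : ℕ} (hK : Fintype.card K = 2 ^ (2 * m + 1)) (hm : 1 ≤ m) :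
    commutator ↥(twistedF4 K (2 ^ m)) = ⊤ := by
  obtain ⟨l, h1, h2, h3⟩ := exists_gen hK hm
  have h := (fieldData_of_card hK).perfect l h1 h2 h3
  exact (Group.isPerfect_def).mp ((Subgroup.isPerfect_iff).mpr h)

end Cfsg.Agent.Helper15.Ree4
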